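import Groth.Agent.H24Formal4.LevelVanish
import Groth.Agent.H06Lift.Basic

/-!
Maps out of the submodule of multiples of an ideal in the limit of a coherent formal module.
-/

set_option autoImplicit false
set_option linter.style.haveILetI false
set_option linter.unusedSectionVars false

universe u

open CategoryTheory CategoryTheory.Limits AlgebraicGeometry Opposite

namespace Groth.Agent.H24Formal4

open Groth.Agent.H24Formal Groth.Agent.H24Formal.HomC

variable {A : Type u} [CommRing A] {X : Scheme.{u}} [X.Over (Spec (CommRingCat.of A))] {I : Ideal A}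

/-- On a Noetherian scheme torsion sections of the limit which are multiples of a high power of the ideal vanish. -/
theorem exists_limit_vanish [IsNoetherian X] (hI : I.FG) {G : ℕᵒᵖ ⥤ X.Modules} (hG : Formal.IsCohFormal I G) :
    ∃ m₀ : ℕ, ∀ (V : X.Opens) (x : Γ(limit G, V)) (t : ℕ),
      x ∈ secIdeal I V ^ m₀ • (⊤ : Submodule Γ(X, V) Γ(limit G, V)) → (∀ a ∈ I ^ t, scalA A V a • x = 0) → x = 0 := by
  classical
  choose U hU hxU hUW using fun x : X => exists_isAffineOpen_mem_and_subset (U := ⊤) (x := x) trivial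
  obtain ⟨s, hs⟩ := (isCompact_univ (X := X)).elim_finite_subcover (fun x : X => (U x : Set X))
    (fun x => (U x).2) fun x _ => Set.mem_iUnion.2 ⟨x, hxU _⟩
  choose m hm using fun x => exists_level_vanish hI hG (hU x)
  refine ⟨s.sup m, fun V x t hx hxt => ?_⟩
  refine limit_section_ext G V x 0 fun n => ?_
  rw [map_zero]
  refine H29Ref.sec_ext _ fun y hy => ?_
  obtain ⟨p, hp, hyp⟩ : ∃ p ∈ s, y ∈ U p := by simpa using hs (Set.mem_univ y)
  obtain ⟨h0, hle, hyh⟩ := (hU p).exists_basicOpen_le (V := V) ⟨y, hy⟩ hyp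
  obtain ⟨n', hn, hvan⟩ := hm p t n
  rw [← H29Ref.germ_res _ hle y hyh, ← H29Ref.germ_res _ hle y hyh]
  congr 1
  rw [map_zero, ← H11Tilde.app_map_apply]
  let x' := (limit G).presheaf.map (homOfLE hle).op x
  have hx' : x' ∈ secIdeal I (X.basicOpen h0) ^ m p • (⊤ : Submodule Γ(X, X.basicOpen h0) Γ(limit G, X.basicOpen h0)) :=
    Submodule.smul_mono (Ideal.pow_le_pow_right (Finset.le_sup hp)) le_rfl (mem_pow_res (limit G) hle hx)
  have h1 : (limit.π G (op n')).app (X.basicOpen h0) x' ∈
      secIdeal I (X.basicOpen h0) ^ m p • (⊤ : Submodule Γ(X, X.basicOpen h0) Γ(G.obj (op n'), X.basicOpen h0)) := by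
    have h2 := Submodule.mem_map_of_mem (f := appL (limit.π G (op n')) (X.basicOpen h0)) hx'
    rw [Submodule.map_smul''] at h2
    exact Submodule.smul_mono le_rfl le_top h2
  have h3 : ∀ a ∈ I ^ t, scalA A (X.basicOpen h0) a • (limit.π G (op n')).app (X.basicOpen h0) x' = 0 := by
    intro a ha
    rw [← Scheme.Modules.Hom.app_smul, ← scalA_res hle a,
      show X.presheaf.map (homOfLE hle).op (scalA A V a) • x' = (limit G).presheaf.map (homOfLE hle).op (scalA A V a • x) from
        (Scheme.Modules.map_smul _ _ _ _).symm, hxt a ha, map_zero, map_zero]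
  have h4 := hvan h0 _ h1 h3
  exact ((congr($(congrArg (fun k => Scheme.Modules.Hom.app k (X.basicOpen h0)) (limit.w G (homOfLE hn).op)) x')).symm.trans h4)

theorem app_sum {ι : Type*} {M N : X.Modules} (f : ι → (M ⟶ N)) (t : Finset ι) (V : X.Opens) (x : Γ(M, V)) :
    (∑ i ∈ t, f i).app V x = ∑ i ∈ t, (f i).app V x := by
  classical
  induction t using Finset.induction_on with
  | empty => rfl
  | insert i t hi ih => rw [Finset.sum_insert hi, Finset.sum_insert hi, ← ih]; rfl

theorem smulMod_sum_mul {κ : Type*} [Fintype κ] (M : X.Modules) (a b : κ → A) :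
    Formal.smulMod A M (∑ i, a i * b i) = ∑ i, Formal.smulMod A M (a i) ≫ Formal.smulMod A M (b i) :=
  hom_ext_app _ _ fun U s => by
    rw [app_sum, smulMod_app, map_sum, Finset.sum_smul]
    refine Finset.sum_congr rfl fun i _ => ?_
    show scalA A U (a i * b i) • s = scalA A U (b i) • (scalA A U (a i) • s)
    rw [map_mul, mul_comm, mul_smul]

/-- The multiplication by generators onto the submodule of multiples is an epimorphism. -/
theorem exists_epi_toIdealPow {N s : ℕ} (g : Fin s → A) (hg : Ideal.span (Set.range g) = I ^ N) (F : X.Modules) :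
    ∃ e : (⨁ fun _ : Fin s => F) ⟶ Formal2.idealPowMod I N F, Epi e ∧
      e ≫ Formal2.idealPowModι I N F = biproduct.desc fun i => Formal.smulMod A F (g i) := by
  let φ : (⨁ fun _ : Fin s => F) ⟶ F := biproduct.desc fun i => Formal.smulMod A F (g i)
  have hφ : φ ≫ Formal.modPowπ I N F = 0 := biproduct.hom_ext' _ _ fun i => by
    rw [biproduct.ι_desc_assoc, comp_zero]
    exact smulMod_modPowπ_eq_zero I (hg ▸ Ideal.subset_span ⟨i, rfl⟩) F
  have hfac : ∀ {T : X.Modules} (k : F ⟶ T), φ ≫ k = 0 → Formal.smulFamily (I ^ N) F ≫ k = 0 := fun {T} k hk =>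
    smulFamily_comp_eq_zero_of_gens g hg.ge k fun i => by
      have h1 := biproduct.ι (fun _ : Fin s => F) i ≫= hk
      simp only [φ, biproduct.ι_desc_assoc, comp_zero] at h1
      exact h1
  let S := ShortComplex.mk φ (Formal.modPowπ I N F) hφ
  have hS : S.Exact := ShortComplex.exact_of_g_is_cokernel _
    (CokernelCofork.IsColimit.ofπ _ _ (fun k hk => cokernel.desc _ k (hfac k hk))
      (fun k hk => cokernel.π_desc _ _ _)
      (fun k hk m hm => coequalizer.hom_ext (hm.trans (cokernel.π_desc _ _ _).symm)))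
  haveI : Epi (Formal.modPowπ I N F) := coequalizer.π_epi
  exact ⟨kernel.lift (Formal.modPowπ I N F) φ hφ, S.exact_iff_epi_kernel_lift.mp hS, kernel.lift_ι _ _ _⟩

/-- Coefficient functions linear on `I ^ N`, with small values and symmetric, give a unique map out of `I ^ N F`. -/
theorem exists_factor [IsNoetherian X] {G : ℕᵒᵖ ⥤ X.Modules} {N m : ℕ}
    (hvan : ∀ (V : X.Opens) (x : Γ(limit G, V)) (t : ℕ),
      x ∈ secIdeal I V ^ m • (⊤ : Submodule Γ(X, V) Γ(limit G, V)) → (∀ a ∈ I ^ t, scalA A V a • x = 0) → x = 0)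
    (hfg : (I ^ N).FG) {ι : Type} [Fintype ι] (co : A → ι → A)
    (hlin : ∀ {s : ℕ} (a g : Fin s → A), (∀ i, g i ∈ I ^ N) → ∀ e, co (∑ i, a i * g i) e = ∑ i, a i * co (g i) e)
    (hsmall : (∀ g ∈ I ^ N, ∀ e, co g e ∈ I ^ m) ∨
      (∀ g ∈ I ^ N, ∀ e, co g e = g) ∨ (∀ g ∈ I ^ N, ∀ e, co g e = 0))
    (hswap : ∀ g ∈ I ^ N, ∀ h ∈ I ^ N, ∀ e, h * co g e = g * co h e)
    (fe : ι → A) (heval : ∀ g ∈ I ^ N, ∑ e, co g e * fe e = g) :
    ∃ ΦF : Formal2.idealPowMod I N (limit G) ⟶ ⨁ (fun _ : ι => limit G),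
      (∀ g ∈ I ^ N, ∀ γ : limit G ⟶ Formal2.idealPowMod I N (limit G),
        γ ≫ Formal2.idealPowModι I N (limit G) = Formal.smulMod A (limit G) g →
          γ ≫ ΦF = biproduct.lift fun e => Formal.smulMod A (limit G) (co g e)) ∧
      ΦF ≫ biproduct.desc (fun e => Formal.smulMod A (limit G) (fe e)) = Formal2.idealPowModι I N (limit G) ∧
      ∀ ΦF' : Formal2.idealPowMod I N (limit G) ⟶ ⨁ (fun _ : ι => limit G),
        (∀ g ∈ I ^ N, ∀ γ : limit G ⟶ Formal2.idealPowMod I N (limit G),
          γ ≫ Formal2.idealPowModι I N (limit G) = Formal.smulMod A (limit G) g →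
            γ ≫ ΦF' = biproduct.lift fun e => Formal.smulMod A (limit G) (co g e)) → ΦF' = ΦF := by
  classical
  let F := limit G
  obtain ⟨s, g, hg⟩ := Submodule.fg_iff_exists_fin_generating_family.mp hfg
  have hgI : ∀ i, g i ∈ I ^ N := fun i => hg ▸ Submodule.subset_span ⟨i, rfl⟩
  obtain ⟨e, he, heι⟩ := exists_epi_toIdealPow (I := I) (N := N) g hg F
  let ψ : (⨁ fun _ : Fin s => F) ⟶ ⨁ (fun _ : ι => F) :=
    biproduct.desc fun i => biproduct.lift fun j => Formal.smulMod A F (co (g i) j)
  have hψ : ∀ j, kernel.ι e ≫ ψ ≫ biproduct.π (fun _ : ι => F) j = 0 := by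
    intro j
    refine hom_ext_app _ _ fun V z => ?_
    let y : Fin s → Γ(F, V) := fun i => (biproduct.π (fun _ : Fin s => F) i).app V ((kernel.ι e).app V z)
    have happ : ∀ (T : X.Modules) (f : Fin s → (F ⟶ T)),
        (biproduct.desc f).app V ((kernel.ι e).app V z) = ∑ i, (f i).app V (y i) := fun T f => by
      rw [biproduct.desc_eq, app_sum]
      rfl
    have h0 : ∑ i, scalA A V (g i) • y i = 0 := by
      refine (happ F fun i => Formal.smulMod A F (g i)).symm.trans ?_
      rw [← heι]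
      have h1 : kernel.ι e ≫ e ≫ Formal2.idealPowModι I N F = 0 := by rw [kernel.condition_assoc, zero_comp]
      exact congr($(congrArg (fun k => Scheme.Modules.Hom.app k V) h1) z)
    have h2 : ψ ≫ biproduct.π (fun _ : ι => F) j = biproduct.desc fun i => Formal.smulMod A F (co (g i) j) := by
      refine biproduct.hom_ext' _ _ fun i => ?_
      rw [biproduct.ι_desc_assoc, biproduct.lift_π, biproduct.ι_desc]
    have h3 : (kernel.ι e ≫ ψ ≫ biproduct.π (fun _ : ι => F) j).app V z = ∑ i, scalA A V (co (g i) j) • y i := by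
      rw [h2]
      exact happ F fun i => Formal.smulMod A F (co (g i) j)
    refine h3.trans ?_
    rcases hsmall with hs | hs | hs
    · refine hvan V _ N (Submodule.sum_mem _ fun i _ => Submodule.smul_mem_smul ?_ trivial) fun a ha => ?_
      · rw [secIdeal, ← Ideal.map_pow]
        exact Ideal.mem_map_of_mem _ (hs _ (hgI i) j)
      · rw [Finset.smul_sum, Finset.sum_congr rfl fun i _ => show scalA A V a • scalA A V (co (g i) j) • y i =
            scalA A V (co a j) • scalA A V (g i) • y i by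
          rw [← mul_smul, ← mul_smul, ← map_mul, ← map_mul, hswap _ (hgI i) a ha, mul_comm],
          ← Finset.smul_sum, h0, smul_zero]
    · rw [Finset.sum_congr rfl fun i _ => by rw [hs _ (hgI i) j]]
      exact h0
    · exact Finset.sum_eq_zero fun i _ => by rw [hs _ (hgI i) j, map_zero]; exact zero_smul _ _
  have hψ' : kernel.ι e ≫ ψ = 0 := biproduct.hom_ext _ _ fun j => by rw [Category.assoc, hψ, zero_comp]
  let ΦF : Formal2.idealPowMod I N F ⟶ ⨁ (fun _ : ι => F) := Abelian.epiDesc e ψ hψ'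
  have hΦ : e ≫ ΦF = ψ := Abelian.comp_epiDesc e ψ hψ'
  let γi : Fin s → (F ⟶ Formal2.idealPowMod I N F) := fun i => biproduct.ι (fun _ : Fin s => F) i ≫ e
  have hγι : ∀ i, γi i ≫ Formal2.idealPowModι I N F = Formal.smulMod A F (g i) := fun i => by
    rw [Category.assoc, heι, biproduct.ι_desc]
  refine ⟨ΦF, fun a ha γ hγ => ?_, ?_, fun ΦF' h' => ?_⟩
  · obtain ⟨c, rfl⟩ := Ideal.mem_span_range_iff_exists_fun.mp (hg.ge ha : a ∈ Submodule.span A (Set.range g))
    have hγ' : γ = ∑ i, Formal.smulMod A F (c i) ≫ γi i := by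
      rw [← cancel_mono (Formal2.idealPowModι I N F)]
      refine hγ.trans ?_
      rw [Preadditive.sum_comp, smulMod_sum_mul]
      exact Finset.sum_congr rfl fun i _ => by rw [Category.assoc, hγι]
    rw [hγ', Preadditive.sum_comp]
    refine biproduct.hom_ext _ _ fun j => ?_
    rw [Preadditive.sum_comp, biproduct.lift_π, hlin c g hgI j, smulMod_sum_mul]
    refine Finset.sum_congr rfl fun i _ => ?_
    simp only [Category.assoc, γi]
    rw [reassoc_of% hΦ]
    simp only [ψ, biproduct.ι_desc_assoc]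
    exact congrArg (Formal.smulMod A F (c i) ≫ ·) (biproduct.lift_π _ _)
  · rw [← cancel_epi e, reassoc_of% hΦ, heι]
    refine biproduct.hom_ext' _ _ fun i => ?_
    rw [biproduct.ι_desc_assoc, biproduct.lift_desc, biproduct.ι_desc, ← smulMod_sum_mul, heval _ (hgI i)]
  · rw [← cancel_epi e, hΦ]
    refine biproduct.hom_ext' _ _ fun i => ?_
    rw [biproduct.ι_desc]
    exact (Category.assoc _ _ _).symm.trans (h' (g i) (hgI i) (γi i) (hγι i))

end Groth.Agent.H24Formal4
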