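import Groth.Agent.H24Formal4.TorsBound
import Groth.Agent.H29Fitt.Sheaf

/-!
Torsion sections of a coherent formal module which are multiples of a high power of the ideal vanish.
-/

set_option autoImplicit false
set_option linter.style.haveILetI false
set_option linter.unusedSectionVars false

universe u

open CategoryTheory CategoryTheory.Limits AlgebraicGeometry Opposite

namespace Groth.Agent.H24Formal4

open Groth.Agent.H24Formal Groth.Agent.H24Formal.HomC

variable {A : Type u} [CommRing A] {X : Scheme.{u}} [X.Over (Spec (CommRingCat.of A))] {I : Ideal A}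

theorem map_secIdeal_pow {W U : X.Opens} (h : W ≤ U) (m : ℕ) :
    (secIdeal I U ^ m).map (X.presheaf.map (homOfLE h).op).hom = secIdeal I W ^ m := by
  rw [Ideal.map_pow, secIdeal, Ideal.map_map,
    show ((X.presheaf.map (homOfLE h).op).hom.comp (scalA A U)) = scalA A W from RingHom.ext fun a => scalA_res h a]
  rfl

theorem mem_pow_res (M : X.Modules) {W U : X.Opens} (h : W ≤ U) {m : ℕ} {x : Γ(M, U)}
    (hx : x ∈ secIdeal I U ^ m • (⊤ : Submodule Γ(X, U) Γ(M, U))) :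
    M.presheaf.map (homOfLE h).op x ∈ secIdeal I W ^ m • (⊤ : Submodule Γ(X, W) Γ(M, W)) := by
  refine Submodule.smul_induction_on hx (fun r hr y _ => ?_) fun p q hp hq => by rw [map_add]; exact add_mem hp hq
  rw [Scheme.Modules.map_smul]
  exact Submodule.smul_mem_smul (map_secIdeal_pow (I := I) h m ▸ Ideal.mem_map_of_mem _ hr) trivial

theorem exists_level_vanish [IsLocallyNoetherian X] (hI : I.FG) {G : ℕᵒᵖ ⥤ X.Modules}
    (hG : Formal.IsCohFormal I G) {U : X.Opens} (hU : IsAffineOpen U) :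
    ∃ m₀ : ℕ, ∀ t n : ℕ, ∃ (n' : ℕ) (h : n ≤ n'), ∀ (h0 : Γ(X, U)) (x : Γ(G.obj (op n'), X.basicOpen h0)),
      x ∈ secIdeal I (X.basicOpen h0) ^ m₀ • (⊤ : Submodule Γ(X, X.basicOpen h0) Γ(G.obj (op n'), X.basicOpen h0)) →
      (∀ a ∈ I ^ t, scalA A (X.basicOpen h0) a • x = 0) → (G.map (homOfLE h).op).app (X.basicOpen h0) x = 0 := by
  classical
  haveI := H24GE.isNoetherianRing_sections hU
  haveI : Module.Finite Γ(X, U) Γ(G.obj (op 0), U) := H24GE.finite_sections' (hG.1 0) hU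
  let S := H24GE.secSys hI hG hU
  obtain ⟨m₀, hm₀⟩ := exists_uniform_vanish S
  refine ⟨m₀, fun t n => ?_⟩
  obtain ⟨n', hn', hvan⟩ := hm₀ t n
  refine ⟨n', hn', fun h0 x hx hxt => ?_⟩
  let M := G.obj (op n')
  let V := X.basicOpen h0
  let ρ : Γ(X, U) →+* Γ(X, V) := (X.presheaf.map (homOfLE (X.basicOpen_le h0)).op).hom
  let res : Γ(M, U) → Γ(M, V) := fun m => M.presheaf.map (homOfLE (X.basicOpen_le h0)).op m
  have hres : ∀ (a : Γ(X, U)) m, res (a • m) = ρ a • res m := fun a m => Scheme.Modules.map_smul M _ a m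
  letI : Module Γ(X, U) Γ(M, V) := Module.compHom Γ(M, V) (algebraMap Γ(X, U) Γ(X, V))
  haveI := H29Fitt.isLocalizedModule_resLin M (hG.1 n').1 hU h0
  have hsurj : ∀ q : Γ(M, V), ∃ (j : ℕ) (m : Γ(M, U)), res m = ρ h0 ^ j • q := fun q => by
    obtain ⟨⟨m, ⟨_, j, rfl⟩⟩, hm⟩ := IsLocalizedModule.surj (Submonoid.powers h0) (H29Fitt.resLin M h0) q
    exact ⟨j, m, hm.symm.trans (congrArg (· • q) (map_pow ρ h0 j))⟩
  have hcomb : ∀ (j j' : ℕ) (a b : Γ(M, V)) (m m' : Γ(M, U)), res m = ρ h0 ^ j • a → res m' = ρ h0 ^ j' • b →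
      res (h0 ^ j' • m + h0 ^ j • m') = ρ h0 ^ (j + j') • (a + b) := fun j j' a b m m' e e' => by
    have e2 : res (h0 ^ j' • m + h0 ^ j • m') = res (h0 ^ j' • m) + res (h0 ^ j • m') := map_add _ _ _
    rw [e2, hres, hres, e, e', map_pow, map_pow, smul_add]
    simp only [smul_smul, ← pow_add]
    rw [add_comm j' j]
  have hzero : ∀ m : Γ(M, U), res m = 0 → ∃ j : ℕ, h0 ^ j • m = 0 := fun m hm => by
    obtain ⟨⟨_, j, rfl⟩, hj⟩ := (IsLocalizedModule.eq_zero_iff (Submonoid.powers h0) (H29Fitt.resLin M h0)).mp hm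
    exact ⟨j, hj⟩
  have hlift : ∀ q ∈ secIdeal I V ^ m₀ • (⊤ : Submodule Γ(X, V) Γ(M, V)),
      ∃ (j : ℕ) (m : Γ(M, U)), m ∈ secIdeal I U ^ m₀ • (⊤ : Submodule Γ(X, U) Γ(M, U)) ∧ res m = ρ h0 ^ j • q := by
    intro q hq
    refine Submodule.smul_induction_on hq (fun r hr y _ => ?_) fun p q hp hq => ?_
    · rw [← map_secIdeal_pow (X.basicOpen_le h0)] at hr
      revert y
      refine Submodule.span_induction (p := fun r _ => ∀ y : Γ(M, V), y ∈ (⊤ : Submodule Γ(X, V) Γ(M, V)) →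
        ∃ (j : ℕ) (m : Γ(M, U)), m ∈ secIdeal I U ^ m₀ • (⊤ : Submodule Γ(X, U) Γ(M, U)) ∧ res m = ρ h0 ^ j • r • y) ?_ ?_ ?_ ?_ hr
      · rintro _ ⟨a, ha, rfl⟩ y -
        obtain ⟨j, m, hm⟩ := hsurj y
        exact ⟨j, a • m, Submodule.smul_mem_smul ha trivial, by rw [hres, hm, smul_comm]⟩
      · intro y _
        exact ⟨0, 0, zero_mem _, by rw [zero_smul, smul_zero]; exact map_zero _⟩
      · intro p q _ _ hp hq y hy
        obtain ⟨j, m, hm, hmy⟩ := hp y hy
        obtain ⟨j', m', hm', hmy'⟩ := hq y hy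
        refine ⟨j + j', h0 ^ j' • m + h0 ^ j • m', add_mem (Submodule.smul_mem _ _ hm) (Submodule.smul_mem _ _ hm'), ?_⟩
        rw [add_smul]
        exact hcomb _ _ _ _ _ _ hmy hmy' 
      · intro c p _ hp y _
        obtain ⟨j, m, hm, hmy⟩ := hp (c • y) trivial
        exact ⟨j, m, hm, by rw [hmy, smul_eq_mul, mul_comm c p, mul_smul p c y]⟩
    · obtain ⟨j, m, hm, hmy⟩ := hp
      obtain ⟨j', m', hm', hmy'⟩ := hq
      exact ⟨j + j', h0 ^ j' • m + h0 ^ j • m', add_mem (Submodule.smul_mem _ _ hm) (Submodule.smul_mem _ _ hm'),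
        hcomb _ _ _ _ _ _ hmy hmy'⟩
  obtain ⟨j, z, hz, hzx⟩ := hlift x hx
  obtain ⟨k, g, hg⟩ := Submodule.fg_iff_exists_fin_generating_family.mp (hI.pow (n := t))
  have hkill : ∀ i, ∃ l : ℕ, h0 ^ l • scalA A U (g i) • z = 0 := fun i => hzero _ (by
    rw [hres, hzx, show ρ (scalA A U (g i)) = scalA A V (g i) from scalA_res (X.basicOpen_le h0) (g i), smul_comm,
      hxt (g i) (hg ▸ Submodule.subset_span ⟨i, rfl⟩), smul_zero])
  choose l hl using hkill
  let L := Finset.univ.sup l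
  have hgz : ∀ i, scalA A U (g i) • h0 ^ L • z = 0 := fun i => by
    rw [smul_comm, show L = (L - l i) + l i from (Nat.sub_add_cancel (Finset.le_sup (f := l) (Finset.mem_univ i))).symm,
      pow_add, mul_smul, hl, smul_zero]
  have hzk : ∀ b ∈ secIdeal I U ^ t, b • h0 ^ L • z = 0 := fun b hb => by
    rw [← H24GE.secIdeal_pow] at hb
    refine Submodule.span_induction (p := fun b _ => b • h0 ^ L • z = 0) ?_ (zero_smul _ _)
      (fun p q _ _ hp hq => by rw [add_smul, hp, hq, add_zero])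
      (fun c p _ hp => by rw [smul_eq_mul, mul_smul, hp, smul_zero]) hb
    rintro _ ⟨a, ha, rfl⟩
    obtain ⟨co, rfl⟩ := (Submodule.mem_span_range_iff_exists_fun A).mp (hg.symm ▸ ha : a ∈ Submodule.span A (Set.range g))
    simp only [map_sum, smul_eq_mul, map_mul, Finset.sum_smul, mul_smul, hgz, smul_zero, Finset.sum_const_zero]
  obtain ⟨y, hy⟩ := S.π_surjective n' (h0 ^ L • z)
  have hyn : S.π n y = 0 := hvan _ (Submodule.smul_mem _ _ hz) hzk y hy
  have htr : (G.map (homOfLE hn').op).app U (h0 ^ L • z) = 0 := by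
    rw [← hy]
    exact (congr($(congrArg (fun k => Scheme.Modules.Hom.app k U) (limit.w G (homOfLE hn').op)) y)).trans hyn
  have h5 : ρ h0 ^ L • ρ h0 ^ j • (G.map (homOfLE hn').op).app V x = 0 := by
    rw [← Scheme.Modules.Hom.app_smul, ← Scheme.Modules.Hom.app_smul, ← hzx, ← map_pow, ← hres]
    exact (H11Tilde.app_map_apply (G.map (homOfLE hn').op) (X.basicOpen_le h0) _).trans ((congrArg _ htr).trans (map_zero _))
  have hu : IsUnit (ρ h0) := RingedSpace.isUnit_res_basicOpen _ h0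
  exact ((hu.pow j).smul_eq_zero).mp (((hu.pow L).smul_eq_zero).mp h5)

end Groth.Agent.H24Formal4
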