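import Mathlib

/-!
Coefficients of a graded algebra map on the powers of an ideal.
-/

set_option autoImplicit false

universe u

open MvPolynomial

namespace Groth.Agent.H24Formal4

variable {A : Type u} [CommRing A] {I : Ideal A}

theorem apply_mem_pow {c c' : ℕ} (h : c ≤ c') (φ : ↥(I ^ c) →ₗ[A] A) (g : A) (hg : g ∈ I ^ c') :
    φ ⟨g, Ideal.pow_le_pow_right h hg⟩ ∈ I ^ (c' - c) := by
  have hg' : g ∈ I ^ (c' - c) * I ^ c := by rwa [← pow_add, Nat.sub_add_cancel h]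
  suffices ∀ g ∈ I ^ (c' - c) * I ^ c, ∃ hg : g ∈ I ^ c, φ ⟨g, hg⟩ ∈ I ^ (c' - c) by
    obtain ⟨_, h2⟩ := this g hg'
    exact h2
  intro g hg
  refine Submodule.mul_induction_on hg (fun a ha b hb => ⟨(I ^ c).mul_mem_left a hb, ?_⟩) fun a b ha hb => ?_
  · have h2 : φ ⟨a * b, (I ^ c).mul_mem_left a hb⟩ = a • φ ⟨b, hb⟩ := by
      rw [← map_smul]; rfl
    rw [h2, smul_eq_mul]
    exact Ideal.mul_mem_right _ _ ha
  · obtain ⟨ha', hφa⟩ := ha
    obtain ⟨hb', hφb⟩ := hb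
    refine ⟨add_mem ha' hb', ?_⟩
    have h2 : φ ⟨a + b, add_mem ha' hb'⟩ = φ ⟨a, ha'⟩ + φ ⟨b, hb'⟩ := by
      rw [← map_add]; rfl
    rw [h2]
    exact add_mem hφa hφb

/-- The evaluation of a homogeneous polynomial as a sum over the exponents of its degree. -/
theorem eval_eq_sum_antidiagonal {r n : ℕ} (f : Fin r → A) (p : MvPolynomial (Fin r) A) (hp : p.IsHomogeneous n) :
    eval f p = ∑ e : ↥(Finset.Nat.antidiagonalTuple r n),
      coeff (Finsupp.equivFunOnFinite.symm e.1) p * ∏ j, f j ^ (e.1 j) := by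
  classical
  rw [eval_eq', Finset.sum_coe_sort (Finset.Nat.antidiagonalTuple r n)
    (fun e => coeff (Finsupp.equivFunOnFinite.symm e) p * ∏ j, f j ^ (e j))]
  refine Finset.sum_bij_ne_zero (fun d _ _ => Finsupp.equivFunOnFinite d) ?_ (fun a _ _ b _ _ h => Finsupp.equivFunOnFinite.injective h) ?_ ?_
  · intro d hd _
    rw [Finset.Nat.mem_antidiagonalTuple]
    have hdeg : d.degree = n := by
      have := hp (mem_support_iff.mp hd)
      rw [Finsupp.degree_eq_weight_one]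
      exact this
    rw [← hdeg, Finsupp.degree_eq_sum]
    rfl
  · intro e _ hne
    refine ⟨Finsupp.equivFunOnFinite.symm e, mem_support_iff.mpr fun h0 => hne (by rw [h0, zero_mul]), ?_, by simp⟩
    simpa using hne
  · intro d _ _
    simp

variable {r : ℕ} {f : Fin r → A} {c c' : ℕ} (hcc' : c ≤ c') (φ : Fin r → (↥(I ^ c) →ₗ[A] A))
  (Φ : ℕ → A → MvPolynomial (Fin r) A)
  (hadd : ∀ n : ℕ, ∀ g ∈ I ^ (n * c'), ∀ h ∈ I ^ (n * c'), Φ n (g + h) = Φ n g + Φ n h)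
  (hmul : ∀ n m : ℕ, ∀ g ∈ I ^ (n * c'), ∀ h ∈ I ^ (m * c'), Φ (n + m) (g * h) = Φ n g * Φ m h)
  (h1 : ∀ (g : A) (hg : g ∈ I ^ c'), Φ 1 g = ∑ j, C (φ j ⟨g, Ideal.pow_le_pow_right hcc' hg⟩) * X j)

include hcc' hadd hmul h1

theorem phi_mem_map {n : ℕ} {g : A} (hg : g ∈ I ^ ((n + 1) * c')) :
    Φ (n + 1) g ∈ (I ^ (c' - c)).map C := by
  have hg' : g ∈ I ^ (n * c') * I ^ c' := by rwa [← pow_add, ← Nat.succ_mul]
  suffices ∀ g ∈ I ^ (n * c') * I ^ c', g ∈ I ^ ((n + 1) * c') ∧ Φ (n + 1) g ∈ (I ^ (c' - c)).map C from (this g hg').2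
  intro g hg
  refine Submodule.mul_induction_on hg (fun a ha b hb => ⟨?_, ?_⟩) fun a b ha hb =>
    ⟨add_mem ha.1 hb.1, by rw [hadd _ a ha.1 b hb.1]; exact add_mem ha.2 hb.2⟩
  · rw [Nat.succ_mul, pow_add]
    exact Ideal.mul_mem_mul ha hb
  · rw [hmul n 1 a ha b (by rwa [one_mul]), h1 b hb]
    exact Ideal.mul_mem_left _ _ (Ideal.sum_mem _ fun j _ =>
      Ideal.mul_mem_right _ _ (Ideal.mem_map_of_mem _ (apply_mem_pow hcc' (φ j) b hb)))

theorem coeff_phi_mem {n : ℕ} {g : A} (hg : g ∈ I ^ ((n + 1) * c')) (e : Fin r →₀ ℕ) :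
    coeff e (Φ (n + 1) g) ∈ I ^ (c' - c) :=
  mem_map_C_iff.mp (phi_mem_map hcc' φ Φ hadd hmul h1 hg) e

theorem eval_phi (h0 : ∀ a : A, Φ 0 a = C a) (hφ : ∀ x : ↥(I ^ c), (x : A) = ∑ j, f j * φ j x) (n : ℕ) :
    ∀ g ∈ I ^ (n * c'), eval f (Φ n g) = g := by
  induction n with
  | zero => intro g _; rw [h0, eval_C]
  | succ n ih =>
    intro g hg
    have hg' : g ∈ I ^ (n * c') * I ^ c' := by rwa [← pow_add, ← Nat.succ_mul]
    suffices ∀ g ∈ I ^ (n * c') * I ^ c', g ∈ I ^ ((n + 1) * c') ∧ eval f (Φ (n + 1) g) = g from (this g hg').2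
    intro g hg
    refine Submodule.mul_induction_on hg (fun a ha b hb => ⟨?_, ?_⟩) fun a b ha hb =>
      ⟨add_mem ha.1 hb.1, by rw [hadd _ a ha.1 b hb.1, map_add, ha.2, hb.2]⟩
    · rw [Nat.succ_mul, pow_add]
      exact Ideal.mul_mem_mul ha hb
    · rw [hmul n 1 a ha b (by rwa [one_mul]), map_mul, ih a ha, h1 b hb, map_sum]
      congr 1
      have h2 := hφ ⟨b, Ideal.pow_le_pow_right hcc' hb⟩
      simp only at h2
      conv_rhs => rw [h2]
      exact Finset.sum_congr rfl fun j _ => by rw [map_mul, eval_C, eval_X, mul_comm]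

end Groth.Agent.H24Formal4
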