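import Groth.Agent.H24Formal4.Factor
import Groth.Agent.H24Formal4.PhiCoeff
import Groth.Agent.H4CdOne
import Groth.Agent.H4LC.NonvanishingHeight
import Groth.Agent.H24FMod.LimScheme
import Groth.Agent.LeadBC.Gamma

/-!
The limit topology on the cohomology of a coherent formal module is adic in cohomological dimension one.
-/

set_option autoImplicit false
set_option linter.style.haveILetI false
set_option linter.unusedSectionVars false

universe u

attribute [-instance] CategoryTheory.catToReflQuiver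

open CategoryTheory CategoryTheory.Limits AlgebraicGeometry Opposite

namespace Groth.Agent.H24Formal4

open Groth.Agent.H24Formal Groth.Agent.LeadFF

variable {A : Type u} [CommRing A] {X : Scheme.{u}} [X.Over (Spec (CommRingCat.of A))]

/-- Every compatible family comes from the cohomology of the limit. -/
theorem exists_lift_family {I : Ideal A} {G : ℕᵒᵖ ⥤ X.Modules} (hG : Formal.IsCohFormal I G) (p : ℕ)
    (x : ∀ n, Coh.HH X (G.obj (op n)) p) (hx : ∀ n, Formal2.HHsysMap G p n (x (n + 1)) = x n) :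
    ∃ ξ : Coh.HH X (limit G) p, ∀ n, Hm (limit.π G (op n)) p ξ = x n := by
  have hQ : Formal2.IsQCohFormal I G := ⟨fun n => (hG.1 n).1, hG.2.1, hG.2.2⟩
  cases p with
  | zero =>
    obtain ⟨t, ht⟩ := exists_limit_section G ⊤ (fun n => LeadBC.secTopEquiv _ (x n)) fun n => by
      rw [← LeadBC.secTopEquiv_natural]
      exact congrArg _ (hx n)
    refine ⟨(LeadBC.secTopEquiv _).symm t, fun n => (LeadBC.secTopEquiv _).injective ?_⟩
    rw [LeadBC.secTopEquiv_natural, AddEquiv.apply_symm_apply, ht]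
  | succ q =>
    obtain ⟨α, β, -, hβ, -, hβπ⟩ := H24FMod.LimScheme.exists_ses_HH G hQ.1 (H24FMod.LimScheme.epi_of_isQCohFormal hQ) q
    obtain ⟨ξ, hξ⟩ := hβ ⟨x, AddMonoidHom.mem_ker.2 (funext fun n => show x n - _ = 0 from sub_eq_zero.2 (hx n).symm)⟩
    exact ⟨ξ, fun n => (hβπ ξ n).symm.trans (congrFun (congrArg Subtype.val hξ) n)⟩

/-- A class of the limit which dies at level `c` comes from the multiples of `I ^ (c + 1)`. -/
theorem exists_of_level_eq_zero {I : Ideal A} (hI : I.FG) {G : ℕᵒᵖ ⥤ X.Modules} (hG : Formal.IsCohFormal I G) (p c : ℕ)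
    (ξ : Coh.HH X (limit G) p) (h : Hm (limit.π G (op c)) p ξ = 0) :
    ∃ y, Hm (Formal2.idealPowModι I (c + 1) (limit G)) p y = ξ := by
  have hQ : Formal2.IsQCohFormal I G := ⟨fun n => (hG.1 n).1, hG.2.1, hG.2.2⟩
  obtain ⟨h0, hiso⟩ := exists_isIso_limit_truncation hI hQ c
  refine (toHH_eq_zero_iff I (limit G) p c ξ).mp ?_
  have e : Formal.modPowπ I (c + 1) (limit G) = limit.π G (op c) ≫ inv (cokernel.desc _ _ h0) :=
    (IsIso.eq_comp_inv (cokernel.desc _ _ h0)).mpr (cokernel.π_desc _ _ h0)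
  show Hm (Formal.modPowπ I (c + 1) (limit G)) p ξ = 0
  rw [e]
  exact (Hm_comp (limit.π G (op c)) _ p ξ).trans ((congrArg _ h).trans (map_zero _))

theorem Hm_sum {ι : Type*} {M N : X.Modules} (f : ι → (M ⟶ N)) (s : Finset ι) (p : ℕ) (x : Coh.HH X M p) :
    Hm (∑ i ∈ s, f i) p x = ∑ i ∈ s, Hm (f i) p x := by
  classical
  induction s using Finset.induction_on with
  | empty => exact Hm_zero p x
  | insert i s hi ih => rw [Finset.sum_insert hi, Finset.sum_insert hi, Hm_add, ih]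

/-- Compatible families vanishing at a high level are in `I ^ m` times the families. -/
theorem exists_adic [IsNoetherianRing A] [IsNoetherian X] (I : Ideal A) (hcd : LocCoh.CdLE A I 1)
    {G : ℕᵒᵖ ⥤ X.Modules} (hG : Formal.IsCohFormal I G) (p m : ℕ) :
    ∃ c : ℕ, ∀ x : ∀ n, Coh.HH X (G.obj (op n)) p,
      (∀ n, Formal2.HHsysMap G p n (x (n + 1)) = x n) → x c = 0 →
        ∃ (k : ℕ) (a : Fin k → A) (y : Fin k → ∀ n, Coh.HH X (G.obj (op n)) p),
          (∀ i, a i ∈ I ^ m ∧ ∀ n, Formal2.HHsysMap G p n (y i (n + 1)) = y i n) ∧ x = ∑ i, a i • y i := by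
  classical
  have hIfg : I.FG := IsNoetherian.noetherian I
  obtain ⟨m₀, hm₀⟩ := exists_limit_vanish hIfg hG
  let J := I ^ (m + 1)
  obtain ⟨k, h, hh⟩ := Submodule.fg_iff_exists_fin_generating_family.mp (IsNoetherian.noetherian J)
  have hhI : ∀ i, h i ∈ I ^ m := fun i =>
    Ideal.pow_le_pow_right (Nat.le_succ m) (hh ▸ Submodule.subset_span ⟨i, rfl⟩ : h i ∈ J)
  have hJcd : LocCoh.CdLE A J 1 := fun M _ _ i hi => by
    obtain ⟨e⟩ := H4LC.nonempty_H_equiv_of_radical_eq (Ideal.radical_pow I (Nat.succ_ne_zero m)).symm M i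
    haveI := hcd M i hi
    exact e.symm.toEquiv.subsingleton
  obtain ⟨c₀, φ, hφ⟩ := H4CdOne.exists_splitting J h hh.symm hJcd
  let N := (m + 1) * (c₀ + 1 + m₀)
  have hNJ : I ^ N = J ^ (c₀ + 1 + m₀) := pow_mul I (m + 1) _
  have hNc : I ^ N ≤ J ^ (c₀ + 1) := hNJ.le.trans (Ideal.pow_le_pow_right (by omega))
  let co : A → Fin k → A := fun g j => if hg : g ∈ J ^ (c₀ + 1) then φ j ⟨g, hg⟩ else 0
  have hco : ∀ g (hg : g ∈ J ^ (c₀ + 1)) j, co g j = φ j ⟨g, hg⟩ := fun g hg j => dif_pos hg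
  obtain ⟨ΦF, -, hΦ, -⟩ := exists_factor (I := I) (N := N) hm₀ (IsNoetherian.noetherian _) co
    (fun {s} a g hg j => by
      have hg' : ∀ i, g i ∈ J ^ (c₀ + 1) := fun i => hNc (hg i)
      rw [hco _ (Ideal.sum_mem _ fun i _ => Ideal.mul_mem_left _ _ (hg' i)),
        show (⟨∑ i, a i * g i, Ideal.sum_mem _ fun i _ => Ideal.mul_mem_left _ _ (hg' i)⟩ : ↥(J ^ (c₀ + 1))) =
          ∑ i, a i • ⟨g i, hg' i⟩ from Subtype.ext (by simp), map_sum]
      exact Finset.sum_congr rfl fun i _ => by rw [map_smul, hco _ (hg' i), smul_eq_mul])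
    (Or.inl fun g hg j => by
      rw [hco _ (hNc hg)]
      have h1 := apply_mem_pow (Nat.le_add_right (c₀ + 1) m₀) (φ j) g (hNJ ▸ hg)
      rw [Nat.add_sub_cancel_left] at h1
      exact Ideal.pow_right_mono (Ideal.pow_le_self (Nat.succ_ne_zero m)) m₀ h1)
    (fun g hg q hq j => by
      rw [hco _ (hNc hg), hco _ (hNc hq), ← smul_eq_mul q, ← map_smul, ← smul_eq_mul g, ← map_smul]
      exact congrArg (φ j) (Subtype.ext (mul_comm q g)))
    h
    (fun g hg => by
      refine Eq.trans ?_ (hφ ⟨g, hNc hg⟩).symm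
      exact Finset.sum_congr rfl fun j _ => by rw [hco _ (hNc hg), mul_comm])
  refine ⟨N, fun x hx hxN => ?_⟩
  obtain ⟨ξ, hξ⟩ := exists_lift_family hG p x hx
  obtain ⟨y₁, hy₁⟩ := exists_of_level_eq_zero hIfg hG p N ξ ((hξ N).trans hxN)
  let y₀ := Hm (Formal2.idealPowIncl I (Nat.le_succ N) (limit G)) p y₁
  have hy₀ : Hm (Formal2.idealPowModι I N (limit G)) p y₀ = ξ := by
    rw [← Hm_comp, idealPowIncl_ι]
    exact hy₁
  let η : Fin k → Coh.HH X (limit G) p := fun j => Hm (ΦF ≫ biproduct.π (fun _ : Fin k => limit G) j) p y₀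
  have hsum : ξ = ∑ j, h j • η j := by
    rw [← hy₀, ← hΦ, biproduct.desc_eq, Preadditive.comp_sum, Hm_sum]
    refine Finset.sum_congr rfl fun j _ => ?_
    rw [← Category.assoc, Hm_smulMod']
  refine ⟨k, h, fun j n => Hm (limit.π G (op n)) p (η j), fun i => ⟨hhI i, fun n => ?_⟩, funext fun n => ?_⟩
  · show Hm (G.map (homOfLE (Nat.le_succ n)).op) p (Hm (limit.π G (op (n + 1))) p (η i)) = _
    rw [← Hm_comp, limit.w]
  · rw [← hξ n, hsum, map_sum, Finset.sum_apply]
    refine Finset.sum_congr rfl fun j _ => ?_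
    rw [Pi.smul_apply, ← Hm_smulMod (M := limit G) p (h j), ← Hm_comp, ← smulMod_natural, Hm_smulMod']

end Groth.Agent.H24Formal4
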