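import Groth.Agent.H24GE.Sys

/-!
Multiples of a high power of the ideal in an adic system have no asymptotic torsion.
-/

set_option autoImplicit false
set_option linter.style.haveILetI false

universe u v

namespace Groth.Agent.H24Formal4

open Groth.Agent.H24Adic Groth.Agent.H24GE

variable {R : Type u} [CommRing R] [IsNoetherianRing R] {J : Ideal R} {M : ℕ → Type v} [∀ n, AddCommGroup (M n)]
  [∀ n, Module R (M n)] {L : Type v} [AddCommGroup L] [Module R L] (S : AdicSystem J M L) [Module.Finite R (M 0)]

include S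

/-- One power of the ideal kills all torsion of the limit. -/
theorem exists_stable_torsion :
    ∃ c₀ : ℕ, ∀ (t : ℕ) (x : L), (∀ a ∈ J ^ t, a • x = 0) → ∀ a ∈ J ^ c₀, a • x = 0 := by
  letI := cmodule S
  haveI := finite_limit S
  haveI := isNoetherianRing_adicCompletion J
  let T : ℕ → Submodule (AdicCompletion J R) L := fun t =>
    { carrier := {x | ∀ a ∈ J ^ t, a • x = 0}
      add_mem' := fun {x y} hx hy a ha => by rw [smul_add, hx a ha, hy a ha, add_zero]
      zero_mem' := fun a _ => smul_zero a
      smul_mem' := fun c x hx a ha => by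
        rw [← csmul_algebraMap S a]
        show algebraMap R (AdicCompletion J R) a • c • x = 0
        rw [smul_comm, show algebraMap R (AdicCompletion J R) a • x = a • x from csmul_algebraMap S a x, hx a ha,
          smul_zero] }
  have hmono : ∀ s t, s ≤ t → T s ≤ T t := fun s t h x hx a ha => hx a (Ideal.pow_le_pow_right h ha)
  obtain ⟨c₀, hc₀⟩ := monotone_stabilizes_iff_noetherian.mpr inferInstance ⟨T, hmono⟩
  refine ⟨c₀, fun t x hx => ?_⟩
  rcases le_total t c₀ with h | h
  · exact hmono t c₀ h hx
  · show x ∈ T c₀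
    rw [show T c₀ = T t from hc₀ t h]
    exact hx

omit [Module.Finite R (M 0)] in
/-- Elements of a power of the completed ideal vanish at the lower levels. -/
theorem π_eq_zero_of_mem_cpow {n : ℕ} {y : L}
    (hy : letI := cmodule S
      y ∈ (J.map (algebraMap R (AdicCompletion J R))) ^ (n + 1) • (⊤ : Submodule (AdicCompletion J R) L)) :
    S.π n y = 0 := by
  letI := cmodule S
  refine Submodule.smul_induction_on hy (fun b hb z _ => ?_) fun p q hp hq => by rw [map_add, hp, hq, add_zero]
  rw [← Ideal.map_pow] at hb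
  refine Submodule.span_induction (p := fun b _ => ∀ z : L, S.π n (b • z) = 0) ?_ (fun z => by rw [zero_smul, map_zero])
    (fun p q _ _ hp hq z => by rw [add_smul, map_add, hp, hq, add_zero])
    (fun c p _ hp z => by rw [smul_eq_mul, mul_comm, mul_smul]; exact hp _) hb z
  rintro _ ⟨a, ha, rfl⟩ z
  rw [show algebraMap R (AdicCompletion J R) a • z = a • z from csmul_algebraMap S a z, map_smul]
  exact smul_eq_zero_of_mem S ha _

/-- There is a power of the ideal whose multiples, when killed by some power of the ideal at a high level, vanish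
at the given level. -/
theorem exists_uniform_vanish :
    ∃ m₀ : ℕ, ∀ t n : ℕ, ∃ n', n ≤ n' ∧ ∀ x ∈ J ^ m₀ • (⊤ : Submodule R (M n')),
      (∀ a ∈ J ^ t, a • x = 0) → ∀ y : L, S.π n' y = x → S.π n y = 0 := by
  classical
  letI := cmodule S
  haveI := finite_limit S
  haveI := isNoetherianRing_adicCompletion J
  obtain ⟨c₀, hc₀⟩ := exists_stable_torsion S
  obtain ⟨m₀, hm₀⟩ := exists_bound S J c₀
  refine ⟨m₀, fun t n => ?_⟩
  obtain ⟨G, hG⟩ := (IsNoetherian.noetherian (J ^ t) : (J ^ t).FG)
  let J' := J.map (algebraMap R (AdicCompletion J R))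
  let N₀ : Submodule (AdicCompletion J R) L := J' ^ m₀ • ⊤
  let f : N₀ →ₗ[AdicCompletion J R] (G → L) :=
    LinearMap.pi fun a => (algebraMap R (AdicCompletion J R) (a : R)) • N₀.subtype
  have hf : ∀ (z : N₀) (a : G), f z a = (a : R) • (z : L) := fun z a => csmul_algebraMap S _ _
  obtain ⟨c, hc⟩ := H24GE.exists_pow_range J' f
  refine ⟨n + c, Nat.le_add_right n c, fun x hxm hxt y hyx => ?_⟩
  rw [← S.π_range (n + c), LinearMap.range_eq_map, ← Submodule.map_smul''] at hxm
  obtain ⟨z, hz, hzx⟩ := hxm
  have hzN : z ∈ N₀ := by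
    refine Submodule.smul_induction_on hz (fun a ha w _ => ?_) fun p q hp hq => add_mem hp hq
    rw [← csmul_algebraMap S a w]
    exact Submodule.smul_mem_smul (map_pow_le m₀ ha) trivial
  have hfz : f ⟨z, hzN⟩ ∈ J' ^ (n + 1 + c) • (⊤ : Submodule (AdicCompletion J R) (G → L)) := by
    rw [show f ⟨z, hzN⟩ = ∑ a, Pi.single a (f ⟨z, hzN⟩ a) from (Finset.univ_sum_single _).symm]
    refine Submodule.sum_mem _ fun a _ => ?_
    have h0 : f ⟨z, hzN⟩ a ∈ J' ^ (n + 1 + c) • (⊤ : Submodule (AdicCompletion J R) L) := by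
      rw [hf, show n + 1 + c = n + c + 1 from Nat.add_right_comm n 1 c]
      refine mem_pow_of_π_eq_zero S ?_
      rw [map_smul, hzx]
      exact hxt _ (hG ▸ Submodule.subset_span a.2)
    have h1 := Submodule.mem_map_of_mem (f := LinearMap.single (AdicCompletion J R) (fun _ : G => L) a) h0
    rw [Submodule.map_smul''] at h1
    exact Submodule.smul_mono le_rfl le_top h1
  obtain ⟨w, hw, hwz⟩ := hc (n + 1) _ hfz
  have hd : ((⟨z, hzN⟩ - w : N₀) : L) = 0 := by
    refine hm₀ _ (hc₀ t _ fun a ha => ?_) fun j => ?_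
    · rw [← hG] at ha
      refine Submodule.span_induction (p := fun a _ => a • ((⟨z, hzN⟩ - w : N₀) : L) = 0) ?_ (zero_smul R _)
        (fun p q _ _ hp hq => by rw [add_smul, hp, hq, add_zero])
        (fun r p _ hp => by rw [smul_eq_mul, mul_smul, hp, smul_zero]) ha
      intro g hg
      rw [← hf _ ⟨g, hg⟩, map_sub, hwz, sub_self]
      rfl
    · have h3 : ((⟨z, hzN⟩ - w : N₀) : L) ∈ N₀ := Subtype.property _
      refine Submodule.smul_induction_on h3 (fun b hb q _ => ?_) fun p q hp hq => by rw [map_add]; exact add_mem hp hq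
      rw [← Ideal.map_pow] at hb
      refine Submodule.span_induction (p := fun b _ => ∀ q : L, S.π j (b • q) ∈ J ^ m₀ • (⊤ : Submodule R (M j))) ?_
        (fun q => by rw [zero_smul, map_zero]; exact zero_mem _)
        (fun p p' _ _ hp hp' q => by rw [add_smul, map_add]; exact add_mem (hp q) (hp' q))
        (fun r p _ hp q => by rw [smul_eq_mul, mul_comm, mul_smul]; exact hp _) hb q
      rintro _ ⟨a, ha, rfl⟩ q
      rw [show algebraMap R (AdicCompletion J R) a • q = a • q from csmul_algebraMap S a q, map_smul]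
      exact Submodule.smul_mem_smul ha trivial
  have hzw : z = (w : L) := by rwa [Submodule.coe_sub, sub_eq_zero] at hd
  have h4 : z ∈ J' ^ (n + 1) • (⊤ : Submodule (AdicCompletion J R) L) := by
    have h5 := Submodule.mem_map_of_mem (f := N₀.subtype) hw
    rw [Submodule.map_smul''] at h5
    rw [hzw]
    exact Submodule.smul_mono le_rfl le_top h5
  rw [← sub_add_cancel y z, map_add, π_eq_zero_of_mem_cpow S h4, add_zero]
  exact S.π_eq_zero_of_le (Nat.le_add_right n c) (by rw [map_sub, hyx, hzx, sub_self])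

end Groth.Agent.H24Formal4
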